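import Cfsg.Agent.KGV.I.Idem
import Mathlib.LinearAlgebra.Matrix.Rank
import Mathlib.LinearAlgebra.Matrix.Charpoly.FiniteField

/-! Functional calculus for a complete family of orthogonal idempotent matrices. -/

set_option autoImplicit false

namespace CL.KGV.Z81
open CL.KGV.Idem

variable {K : Type*} [Field K] {n : Type*} [Fintype n] [DecidableEq n]

/-- The algebra map attached to a complete orthogonal family. -/
noncomputable def J {ι : Type*} [Fintype ι] {E : ι → Matrix n n K}
    (hE : CompleteOrthogonalIdempotents E) : (ι → K) →ₐ[K] Matrix n n K where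
  toFun c := ∑ i, c i • E i
  map_one' := by simpa using hE.complete
  map_mul' c d := by
    classical
    rw [Finset.sum_mul_sum]
    refine Finset.sum_congr rfl fun i _ => ?_
    rw [Finset.sum_eq_single i]
    · rw [smul_mul_smul_comm, (hE.idem i).eq]; rfl
    · intro j _ hj
      rw [smul_mul_smul_comm, hE.ortho hj.symm, smul_zero]
    · simp
  map_zero' := by simp
  map_add' c d := by simp [add_smul, Finset.sum_add_distrib]
  commutes' a := by
    rw [Algebra.algebraMap_eq_smul_one (A := Matrix n n K), ← hE.complete, Finset.smul_sum]; rfl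

section
variable {ι : Type*} [Fintype ι] {E : ι → Matrix n n K} (hE : CompleteOrthogonalIdempotents E)

theorem J_apply (c : ι → K) : J hE c = ∑ i, c i • E i := rfl

theorem J_congr {c d : ι → K} (h : ∀ i, E i ≠ 0 → c i = d i) : J hE c = J hE d :=
  Finset.sum_congr rfl fun i _ => by
    by_cases h0 : E i = 0
    · simp [h0]
    · rw [h i h0]

theorem rk_toLin (M : Matrix n n K) : rk (Matrix.toLinAlgEquiv' M) = M.rank := rfl

theorem det_J (c : ι → K) : (J hE c).det = ∏ i, c i ^ (E i).rank := by
  have h := det_sum_top (fun i => Matrix.toLinAlgEquiv' (E i))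
    (hE.map (Matrix.toLinAlgEquiv' (R := K) (n := n)).toRingEquiv.toRingHom) c
  rw [← LinearMap.det_toLin' , J_apply]
  simp only [rk_toLin] at h
  rw [← h]
  congr 1
  simp only [map_sum, map_smul]
  rfl

theorem trace_J (c : ι → K) : (J hE c).trace = ∑ i, ((E i).rank : K) * c i := by
  have h := trace_sum (fun i => Matrix.toLinAlgEquiv' (E i))
    (fun i => (hE.idem i).map (Matrix.toLinAlgEquiv' (R := K) (n := n))) c Finset.univ
  simp only [rk_toLin] at h
  rw [← Matrix.trace_toLin'_eq, J_apply]
  simp only [mul_comm _ (c _)]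
  rw [← h]
  congr 1
  simp only [map_sum, map_smul]
  rfl

variable [Fintype K] [DecidableEq K]

theorem ep_J (c : ι → K) (a : K) : ep (J hE c) a = J hE fun i => if c i = a then 1 else 0 := by
  refine (map_ep (J hE).toRingHom id (fun a => (J hE).commutes a) c a).symm.trans ?_
  change J hE _ = _
  congr 1
  funext i
  have hc : Fintype.card K - 1 ≠ 0 := by
    have := Fintype.one_lt_card (α := K); omega
  simp only [ep, Pi.sub_apply, Pi.one_apply, Pi.pow_apply, Pi.algebraMap_apply, Algebra.algebraMap_self,
    RingHom.id_apply]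
  split_ifs with h
  · simp [h, hc]
  · simp [FiniteField.pow_card_sub_one_eq_one _ (sub_ne_zero.2 h)]

end

variable [Fintype K]

/-- The weighted product of the determinants of `z` on the eigenspaces of `s`. -/
noncomputable def La (l : K → ℕ) (s z : Matrix n n K) : K :=
  ∏ a, (z * ep s a + (1 - ep s a)).det ^ l a

theorem La_one (l : K → ℕ) (s : Matrix n n K) : La l s 1 = 1 := by simp [La]

theorem La_mul (l : K → ℕ) {s z w : Matrix n n K} (hs : s ^ Fintype.card K = s) (hw : Commute w s) :
    La l s (z * w) = La l s z * La l s w := by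
  rw [La, La, La, ← Finset.prod_mul_distrib]
  refine Finset.prod_congr rfl fun a _ => ?_
  rw [← mul_pow, ← Matrix.det_mul]
  congr 2
  have h1 : ep s a * ep s a = ep s a := ((coi hs).idem a).eq
  have h2 : ep s a * w = w * ep s a := (commute_ep hw a).eq.symm
  have h3 : ep s a * (w * ep s a) = w * ep s a := by rw [← mul_assoc, h2, mul_assoc, h1]
  simp only [add_mul, mul_add, sub_mul, mul_sub, one_mul, mul_one, mul_assoc, h1, h3]
  abel

theorem La_conj (l : K → ℕ) (c : (Matrix n n K)ˣ) (s z : Matrix n n K) :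
    La l (c.val * s * (c⁻¹).val) (c.val * z * (c⁻¹).val) = La l s z := by
  refine Finset.prod_congr rfl fun a _ => ?_
  have h1 : ep (c.val * s * (c⁻¹).val) a = c.val * ep s a * (c⁻¹).val := by
    have h2 : (c.val * s * (c⁻¹).val - algebraMap K (Matrix n n K) a : Matrix n n K) =
        c.val * (s - algebraMap K (Matrix n n K) a) * (c⁻¹).val := by
      rw [mul_sub, sub_mul, ← Algebra.commutes, mul_assoc (algebraMap _ _ a), Units.mul_inv, mul_one]
    rw [ep, ep, h2, Units.conj_pow, mul_sub, sub_mul, mul_one, Units.mul_inv]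
  rw [h1, ← Matrix.det_units_conj c (z * ep s a + (1 - ep s a))]
  congr 2
  simp only [mul_add, add_mul, mul_sub, sub_mul, mul_one, Units.mul_inv, mul_assoc,
    Units.inv_mul_cancel_left]

theorem La_J (l : K → ℕ) {ι : Type*} [Fintype ι] {E : ι → Matrix n n K}
    (hE : CompleteOrthogonalIdempotents E) (c d : ι → K) :
    La l (J hE c) (J hE d) = ∏ i, d i ^ (l (c i) * (E i).rank) := by
  classical
  have h1 : ∀ a, (J hE d * ep (J hE c) a + (1 - ep (J hE c) a)).det ^ l a =
      ∏ i, if c i = a then d i ^ (l (c i) * (E i).rank) else 1 := fun a => by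
    rw [ep_J, ← map_one (J hE), ← map_mul, ← map_sub, ← map_add, det_J, ← Finset.prod_pow]
    refine Finset.prod_congr rfl fun i _ => ?_
    simp only [Pi.add_apply, Pi.mul_apply, Pi.sub_apply, Pi.one_apply]
    split_ifs with h
    · subst h; simp [← pow_mul, mul_comm]
    · simp
  simp only [La, h1]
  rw [Finset.prod_comm]
  simp

section Pair
variable {g s : Matrix n n K} (hg : g ^ Fintype.card K = g) (hs : s ^ Fintype.card K = s)
  (h : Commute g s)

theorem J_fst : J (coi2 hg hs h) Prod.fst = g := by
  rw [J_apply, Fintype.sum_prod_type]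
  simp only [← smul_mul_assoc, ← Finset.mul_sum, (coi hs).complete, mul_one]
  exact sum_ep hg

theorem J_snd : J (coi2 hg hs h) Prod.snd = s := by
  rw [J_apply, Fintype.sum_prod_type_right]
  simp only [← mul_smul_comm, ← Finset.sum_mul, (coi hg).complete, one_mul]
  exact sum_ep hs

/-- `s` is recovered from the twisted element. -/
theorem recover (ρ : K → K → K) (hρ : ∀ a, Function.Injective (ρ a)) :
    s = ∑ ab : K × K, ab.2 • (ep g ab.1 * ep (J (coi2 hg hs h) fun i => ρ i.1 i.2) (ρ ab.1 ab.2)) := by
  classical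
  have h1 : ∀ a, ep g a = J (coi2 hg hs h) fun i => if i.1 = a then 1 else 0 := fun a => by
    rw [← ep_J, J_fst hg hs h]
  have h2 : ∀ ab : K × K, ab.2 • (ep g ab.1 * ep (J (coi2 hg hs h) fun i => ρ i.1 i.2) (ρ ab.1 ab.2)) =
      J (coi2 hg hs h) (ab.2 • ((fun i => if i.1 = ab.1 then 1 else 0) *
        fun i => if ρ i.1 i.2 = ρ ab.1 ab.2 then 1 else 0)) := fun ab => by
    rw [map_smul, map_mul, ← h1, ep_J]
  rw [Finset.sum_congr rfl fun ab _ => h2 ab, ← map_sum]
  refine (J_snd hg hs h).symm.trans ?_
  congr 1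
  funext i
  rw [Finset.sum_apply, Finset.sum_eq_single i]
  · simp
  · intro j _ hj
    by_cases h2 : i.1 = j.1
    · have : ρ i.1 i.2 ≠ ρ j.1 j.2 := fun e => hj (Prod.ext h2.symm (hρ _ (h2 ▸ e)).symm)
      simp [this]
    · simp [h2]
  · simp

end Pair

end CL.KGV.Z81
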